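import Groth.Agent.An92.Lef.QuadSmooth
import Groth.Agent.An92.Lef.QuadPoints
import Groth.Agent.Curves2.SmoothHyper

/-! Jacobian criterion for hypersurfaces of projective space, with points in field extensions. -/

universe u

open CategoryTheory CategoryTheory.Limits AlgebraicGeometry Opposite TopologicalSpace MvPolynomial

noncomputable section

set_option backward.isDefEq.respectTransparency false

namespace Groth.Agent.Smooth31

open LefPen Groth.Agent.Var76 Groth.Agent.Var76.BertiniScheme Groth.Agent.An92.Lef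

theorem smooth_quot_iff_points {k : Type u} [Field k] {σ : Type} [Fintype σ] (g : MvPolynomial σ k)
    (hg : g ≠ 0) :
    Algebra.Smooth k (MvPolynomial σ k ⧸ Ideal.span {g}) ↔
      ∀ (K : Type u) [Field K] [Algebra k K] (v : σ → K),
        ¬ (aeval v g = 0 ∧ ∀ i, aeval v (pderiv i g) = 0) := by
  rw [Curves2.smooth_quot_singleton_iff g hg]
  constructor
  · rintro ⟨γ, α, h⟩ K _ _ v ⟨h0, h1⟩
    have := congrArg (aeval v) h
    simp [h0, h1] at this
  · intro H
    by_contra hne
    have htop : Ideal.span (insert g (Set.range fun i => pderiv i g)) ≠ ⊤ := by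
      intro h
      have h1 : (1 : MvPolynomial σ k) ∈ Ideal.span (insert g (Set.range fun i => pderiv i g)) := h ▸ trivial
      obtain ⟨γ, z, hz, e⟩ := Ideal.mem_span_insert.1 h1
      obtain ⟨α, rfl⟩ := Ideal.mem_span_range_iff_exists_fun.1 hz
      exact hne ⟨γ, α, e.symm⟩
    obtain ⟨M, hM, hle⟩ := Ideal.exists_le_maximal _ htop
    let _ := Ideal.Quotient.field M
    have hz : ∀ p ∈ insert g (Set.range fun i => pderiv i g),
        aeval (fun i => Ideal.Quotient.mkₐ k M (X i)) p = 0 := fun p hp => by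
      rw [← comp_aeval_apply, aeval_X_left_apply]
      exact Ideal.Quotient.eq_zero_iff_mem.2 (hle (Ideal.subset_span hp))
    exact H _ _ ⟨hz g (Set.mem_insert _ _), fun i => hz _ (Set.mem_insert_of_mem _ ⟨i, rfl⟩)⟩

variable {k : Type u} [Field k] {m d : ℕ}

local notation "ℙ" => CohB1.ProjSpace m k
local notation "𝟙ℙ" => 𝟙 (CohB1.ProjSpace m k)

theorem smooth_iff_pieces' (G : Form m k d) :
    Smooth ((hypIdeal G).subschemeι ≫ CohB1.ProjSpace.toSpec m k) ↔
      ∀ j, Algebra.Smooth k (Γ(CohB1.ProjSpace m k, piece (𝟙 (CohB1.ProjSpace m k)) j) ⧸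
        Ideal.span {pform (𝟙 (CohB1.ProjSpace m k)) j G}) := by
  set i := 𝟙 (CohB1.ProjSpace m k)
  letI := overOf i
  set I := secIdeal i ({G} : Set (Form m k d))
  have hI : hypIdeal G = I := by simp [I, secIdeal, i, Scheme.IdealSheafData.comap_id]
  rw [hI, show I.subschemeι ≫ CohB1.ProjSpace.toSpec m k = I.subschemeι ≫ (CohB1.ProjSpace m k) ↘ Spec (CommRingCat.of k) by
    show _ = I.subschemeι ≫ i ≫ CohB1.ProjSpace.toSpec m k
    simp [i]]
  let W : Fin (m + 1) → (CohB1.ProjSpace m k).affineOpens := fun j => ⟨piece i j, isAffineOpen_piece i j⟩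
  have : IsZariskiLocalAtSource @Smooth := HasRingHomProperty.instIsZariskiLocalAtSource (Q := RingHom.Smooth)
  rw [IsZariskiLocalAtSource.iff_of_iSup_eq_top (P := @Smooth) (fun j => I.subschemeι ⁻¹ᵁ (W j).1) (by
    rw [eq_top_iff]
    intro z _
    obtain ⟨j, hj⟩ := Opens.mem_iSup.1 ((iSup_piece i).ge (trivial : I.subschemeι z ∈ (⊤ : (CohB1.ProjSpace m k).Opens)))
    exact Opens.mem_iSup.2 ⟨j, hj⟩)]
  refine forall_congr' fun j => ?_
  have : IsOpenImmersion (I.subschemeCover.f (W j)) := I.subschemeCover.openCover.map_prop (W j)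
  rw [← I.opensRange_subschemeCover_map (W j), ← MorphismProperty.cancel_left_of_respectsIso
    @Smooth (I.subschemeCover.f (W j)).isoOpensRange.hom, Scheme.Hom.isoOpensRange_hom_ι_assoc,
    reassoc_of% (I.subschemeCover_map_subschemeι (W j))]
  refine Iff.trans ?_ ((HasRingHomProperty.Spec_iff (P := @Smooth)
    (φ := CommRingCat.ofHom ((Ideal.Quotient.mk (I.ideal (W j))).comp (const (k := k) _ (W j).1)))).trans ?_)
  · refine Iff.of_eq (congrArg Smooth ?_)
    rw [CommRingCat.ofHom_comp, Spec.map_comp, SpecMap_const (W j).2]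
    exact ((Category.assoc _ _ _).symm.trans (congrArg (· ≫ (CohB1.ProjSpace m k) ↘ Spec (CommRingCat.of k))
      (I.glueDataObjι_ι (W j)))).trans (Category.assoc _ _ _)
  · have h := secIdeal_piece i ({G} : Set (Form m k d)) j
    rw [Set.image_singleton] at h
    rw [show I.ideal (W j) = _ from h, ← RingHom.smooth_algebraMap]
    rfl

/-- dehomogenisation at the `j`-th coordinate -/
def dh (j : Fin (m + 1)) : MvPolynomial (Fin (m + 1)) k →ₐ[k] MvPolynomial (Fin m) k :=
  aeval (j.insertNth 1 X)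

theorem pderiv_dh (j : Fin (m + 1)) (i : Fin m) (p : MvPolynomial (Fin (m + 1)) k) :
    pderiv i (dh j p) = dh j (pderiv (j.succAbove i) p) := by
  induction p using MvPolynomial.induction_on with
  | C c => simp [dh, ← MvPolynomial.algebraMap_eq]
  | add p q hp hq => simp only [map_add, hp, hq]
  | mul_X p l hp =>
    rw [map_mul, pderiv_mul, hp, pderiv_mul, map_add, map_mul, map_mul]
    congr 1
    rcases Fin.eq_self_or_eq_succAbove j l with rfl | ⟨l', rfl⟩
    · simp [dh, pderiv_X, Fin.succAbove_ne]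
    · simp [dh, pderiv_X, Pi.single_apply, (Fin.succAbove_right_injective (p := j)).eq_iff]

theorem exists_chart_equiv' (j : Fin (m + 1)) :
    ∃ e : Γ(ℙ, piece 𝟙ℙ j) ≃ₐ[k] MvPolynomial (Fin m) k,
      ∀ {d : ℕ} (G : Form m k d), e (pform 𝟙ℙ j G) = dh j G.1 := by
  obtain ⟨χ, hχ⟩ := exists_chartHom (k := k) (m := m) (B := MvPolynomial (Fin m) k) j (j.insertNth 1 MvPolynomial.X)
    (by rw [Fin.insertNth_apply_same]; exact isUnit_one)
  have hG : ∀ {d : ℕ} (G : Form m k d), χ (pform 𝟙ℙ j G) = dh j G.1 := fun {d} G => by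
    have := hχ G
    rwa [Fin.insertNth_apply_same, one_pow, mul_one] at this
  have hc : ∀ l, χ (pcoord 𝟙ℙ j l) = (j.insertNth 1 MvPolynomial.X : Fin (m + 1) → MvPolynomial (Fin m) k) l := fun l => by
    have := hG (⟨MvPolynomial.X l, LefPen.X_mem m k l⟩ : Form m k 1)
    simpa [pform_X, dh] using this
  let ψ : MvPolynomial (Fin m) k →ₐ[k] Γ(ℙ, piece 𝟙ℙ j) := aeval fun i => pcoord _ j (j.succAbove i)
  have h1 : χ.comp ψ = AlgHom.id k _ := MvPolynomial.algHom_ext fun i => by
    show χ (ψ (MvPolynomial.X i)) = _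
    rw [show ψ (MvPolynomial.X i) = _ from MvPolynomial.aeval_X _ i, hc, Fin.insertNth_apply_succAbove]; rfl
  have h2 : Function.Surjective ψ := by
    have hle : Algebra.adjoin k (Set.range (pcoord 𝟙ℙ j)) ≤ ψ.range := by
      rw [Algebra.adjoin_le_iff]
      rintro _ ⟨l, rfl⟩
      rcases Fin.eq_self_or_eq_succAbove j l with rfl | ⟨i, rfl⟩
      · exact ⟨1, (map_one ψ).trans (pcoord_self _ _).symm⟩
      · exact ⟨MvPolynomial.X i, MvPolynomial.aeval_X _ i⟩
    have hr : ψ.range = ⊤ := top_le_iff.1 ((adjoin_pcoord _ j).ge.trans hle)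
    exact fun a => (hr.ge (Algebra.mem_top (x := a)) : a ∈ ψ.range)
  have hbij : Function.Bijective χ := by
    constructor
    · intro a b hab
      obtain ⟨a', rfl⟩ := h2 a
      obtain ⟨b', rfl⟩ := h2 b
      have ea := AlgHom.congr_fun h1 a'
      have eb := AlgHom.congr_fun h1 b'
      simp only [AlgHom.comp_apply, AlgHom.id_apply] at ea eb
      rw [← ea, ← eb, hab]
    · exact fun x => ⟨ψ x, AlgHom.congr_fun h1 x⟩
  exact ⟨AlgEquiv.ofBijective χ hbij, hG⟩

/-- A hypersurface is smooth iff no point in a field extension is singular. -/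
theorem smooth_iff_points (G : Form m k d) (hG : G.1 ≠ 0) :
    Smooth ((hypIdeal G).subschemeι ≫ CohB1.ProjSpace.toSpec m k) ↔
      ∀ (K : Type u) [Field K] [Algebra k K] (j : Fin (m + 1)) (v : Fin (m + 1) → K), v j = 1 →
        ¬ (aeval v G.1 = 0 ∧ ∀ i, i ≠ j → aeval v (pderiv i G.1) = 0) := by
  have hdh : ∀ j, dh j G.1 ≠ 0 := fun j h => by
    obtain ⟨e, he⟩ := exists_chart_equiv' (k := k) j
    exact pform_ne_zero_quad j G hG (e.injective (by rw [he, h, map_zero]))
  have hpiece : ∀ j, Algebra.Smooth k (Γ(ℙ, piece 𝟙ℙ j) ⧸ Ideal.span {pform 𝟙ℙ j G}) ↔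
      ∀ (K : Type u) [Field K] [Algebra k K] (w : Fin m → K),
        ¬ (aeval w (dh j G.1) = 0 ∧ ∀ i, aeval w (pderiv i (dh j G.1)) = 0) := fun j => by
    obtain ⟨e, he⟩ := exists_chart_equiv' (k := k) j
    rw [← smooth_quot_iff_points _ (hdh j)]
    have e' : (Γ(ℙ, piece 𝟙ℙ j) ⧸ Ideal.span {pform 𝟙ℙ j G}) ≃ₐ[k]
        (MvPolynomial (Fin m) k ⧸ Ideal.span {dh j G.1}) :=
      Ideal.quotientEquivAlg _ _ e (by rw [Ideal.map_span, Set.image_singleton]; exact congrArg (fun x => Ideal.span {x}) (he G).symm)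
    exact ⟨fun _ => Algebra.Smooth.of_equiv e', fun _ => Algebra.Smooth.of_equiv e'.symm⟩
  rw [smooth_iff_pieces']
  simp only [hpiece]
  have key : ∀ (K : Type u) [Field K] [Algebra k K] (j : Fin (m + 1)) (w : Fin m → K) p,
      aeval w (dh j p) = aeval (j.insertNth 1 w) p := fun K _ _ j w p => by
    show aeval w (aeval (j.insertNth 1 X : Fin (m + 1) → MvPolynomial (Fin m) k) p) = _
    rw [comp_aeval_apply]
    congr 2
    funext l
    rcases Fin.eq_self_or_eq_succAbove j l with rfl | ⟨l', rfl⟩ <;> simp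
  constructor
  · rintro H K _ _ j v hv ⟨h0, h1⟩
    have ev : j.insertNth 1 (fun i => v (j.succAbove i)) = v := by
      rw [← hv]; exact Fin.insertNth_self_removeNth j v
    refine H j K (fun i => v (j.succAbove i)) ⟨by rw [key, ev, h0], fun i => ?_⟩
    rw [pderiv_dh, key, ev, h1 _ (Fin.succAbove_ne j i)]
  · rintro H j K _ _ w ⟨h0, h1⟩
    refine H K j (j.insertNth 1 w) (Fin.insertNth_apply_same _ _ _) ⟨by rwa [← key], fun i hi => ?_⟩
    obtain ⟨i', rfl⟩ := (Fin.exists_succAbove_eq hi)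
    rw [← key, ← pderiv_dh]
    exact h1 i'

end Groth.Agent.Smooth31
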